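import Groth.Agent.S7382
import Groth.Agent.S2076
import Mathlib.AlgebraicGeometry.ZariskisMainTheorem
import Mathlib.AlgebraicGeometry.AffineTransitionLimit
import Mathlib.AlgebraicGeometry.Morphisms.Immersion

/-!
# Separated quasi-finite morphisms of finite type: an open immersion into a finite morphism
-/

set_option autoImplicit false
set_option backward.isDefEq.respectTransparency false

universe u

open CategoryTheory CategoryTheory.Limits AlgebraicGeometry

namespace Groth.Agent.LocImm77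

attribute [local instance] CategoryTheory.isConnected_of_hasTerminal

/-- An open subscheme of a limit of affine transition maps that is of finite type over a stage immerses
in some stage. -/
theorem exists_immersion_stage {I : Type u} [SmallCategory I] [IsCofiltered I] {Y : Scheme.{u}}
    (D : I ⥤ Over Y) (c : Cone D) (hc : IsLimit c)
    [∀ (i j : I) (f : i ⟶ j), IsAffineHom (D.map f).left]
    {X : Scheme.{u}} (j : X ⟶ c.pt.left) [IsOpenImmersion j] [CompactSpace X]
    [LocallyOfFiniteType (j ≫ c.pt.hom)] :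
    ∃ i : I, IsImmersion (j ≫ (c.π.app i).left) := by
  haveI : IsConnected I := IsCofiltered.isConnected I
  let D₀ : I ⥤ Scheme.{u} := D ⋙ Over.forget Y
  let c₀ : Cone D₀ := (Over.forget Y).mapCone c
  have hc₀ : IsLimit c₀ := isLimitOfPreserves (Over.forget Y) hc
  haveI : ∀ {a b : I} (f : a ⟶ b), IsAffineHom (D₀.map f) := fun f => inferInstanceAs (IsAffineHom (D.map f).left)
  obtain ⟨i, V, hV, hVU⟩ := exists_preimage_eq D₀ c₀ hc₀ j.opensRange (isCompact_range j.continuous)
  let D₁ := opensDiagram D₀ i V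
  let c₁ := opensCone D₀ c₀ i V
  have hc₁ : IsLimit c₁ := isLimitOpensCone D₀ c₀ hc₀ i V
  let T : Over i := Over.mk (𝟙 i)
  let D₂ : Over i ⥤ Over (D₁.obj T) :=
    { obj := fun k => Over.mk (D₁.map (Over.homMk k.hom (Category.comp_id _) : k ⟶ T))
      map := fun {k l} f => Over.homMk (D₁.map f) (by
        show D₁.map f ≫ D₁.map _ = D₁.map _
        rw [← D₁.map_comp]
        congr 1
        ext
        exact Over.w f)
      map_id := fun k => by ext; exact D₁.map_id k
      map_comp := fun f g => by ext; exact D₁.map_comp f g }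
  let c₂ : Cone D₂ :=
    { pt := Over.mk (c₁.π.app T)
      π :=
        { app := fun k => Over.homMk (c₁.π.app k) (c₁.w (Over.homMk k.hom (Category.comp_id _) : k ⟶ T))
          naturality := fun k l f => by
            ext
            exact c₁.π.naturality f } }
  haveI : IsConnected (Over i) := CategoryTheory.isConnected_of_hasTerminal _
  have hc₂ : IsLimit c₂ := by
    refine isLimitOfReflects (Over.forget (D₁.obj T)) ?_
    exact IsLimit.ofIsoLimit hc₁ (Cone.ext (Iso.refl _) (fun k => (Category.id_comp _).symm))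
  haveI : ∀ (a b : Over i) (f : a ⟶ b), IsAffineHom (D₂.map f).left := fun a b f =>
    inferInstanceAs (IsAffineHom (D₁.map f))
  haveI : ∀ k, CompactSpace (D₂.obj k).left := fun k =>
    isCompact_iff_compactSpace.mp ((D₀.map k.hom).isCompact_preimage hV)
  let h : X ⟶ c₂.pt.left := IsOpenImmersion.lift (c₀.π.app i ⁻¹ᵁ V).ι j
    (((Scheme.Opens.range_ι _).trans ((congrArg SetLike.coe hVU).trans (Scheme.Hom.coe_opensRange j))).ge)
  have hh : h ≫ (c₀.π.app i ⁻¹ᵁ V).ι = j := IsOpenImmersion.lift_fac _ _ _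
  haveI : IsOpenImmersion (h ≫ (c₀.π.app i ⁻¹ᵁ V).ι) := hh.symm ▸ inferInstance
  haveI : IsOpenImmersion h := IsOpenImmersion.of_comp h (c₀.π.app i ⁻¹ᵁ V).ι
  haveI : Surjective h := by
    refine ⟨fun y => ?_⟩
    have hy : (c₀.π.app i ⁻¹ᵁ V).ι y ∈ j.opensRange := by
      rw [← hVU]
      exact y.2
    obtain ⟨x, hx⟩ := hy
    refine ⟨x, (c₀.π.app i ⁻¹ᵁ V).ι.isOpenEmbedding.injective ?_⟩
    exact (congrArg (fun g : X ⟶ c.pt.left => g x) hh).trans hx
  haveI : IsIso h := (isIso_iff_isOpenImmersion_and_surjective h).mpr ⟨inferInstance, inferInstance⟩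
  haveI : LocallyOfFiniteType (h ≫ c₂.pt.hom) := by
    have e : (h ≫ c₂.pt.hom) ≫ (D₀.map T.hom ⁻¹ᵁ V).ι ≫ (D.obj i).hom = j ≫ c.pt.hom := by
      have e1 : c₁.π.app T ≫ (D₀.map T.hom ⁻¹ᵁ V).ι = (c₀.π.app i ⁻¹ᵁ V).ι ≫ c₀.π.app i :=
        Scheme.Hom.resLE_comp_ι _ _
      show (h ≫ c₁.π.app T) ≫ _ = _
      rw [Category.assoc, ← Category.assoc (c₁.π.app T), e1, Category.assoc, reassoc_of% hh]
      exact congrArg (j ≫ ·) (Over.w (c.π.app i))
    haveI : LocallyOfFiniteType ((h ≫ c₂.pt.hom) ≫ (D₀.map T.hom ⁻¹ᵁ V).ι ≫ (D.obj i).hom) := e ▸ inferInstance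
    exact locallyOfFiniteType_of_comp _ ((D₀.map T.hom ⁻¹ᵁ V).ι ≫ (D.obj i).hom)
  obtain ⟨k, hk⟩ := Groth.Agent.S2076.result (D₁.obj T) D₂ c₂ hc₂ h
  refine ⟨k.left, ?_⟩
  have e : j ≫ (c.π.app k.left).left = (h ≫ (c₂.π.app k).left) ≫ (D₀.map k.hom ⁻¹ᵁ V).ι := by
    have e1 : c₁.π.app k ≫ (D₀.map k.hom ⁻¹ᵁ V).ι = (c₀.π.app i ⁻¹ᵁ V).ι ≫ c₀.π.app k.left :=
      Scheme.Hom.resLE_comp_ι _ _
    show _ = (h ≫ c₁.π.app k) ≫ _
    rw [Category.assoc, e1, reassoc_of% hh]
    rfl
  haveI := hk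
  rw [e]
  infer_instance

/-- A separated quasi-finite morphism of finite type to a Noetherian scheme is an open immersion followed
by a finite morphism. -/
theorem exists_openImmersion_finite {X Y : Scheme.{u}} [IsNoetherian Y] (f : X ⟶ Y) [IsSeparated f]
    [LocallyOfFiniteType f] [QuasiCompact f] [LocallyQuasiFinite f] :
    ∃ (Z : Scheme.{u}) (i : X ⟶ Z) (h : Z ⟶ Y), IsOpenImmersion i ∧ IsFinite h ∧ i ≫ h = f := by
  obtain ⟨I, hP, hdir, hne, D, c, hc, hD, ⟨e⟩⟩ := Groth.Agent.S7382.result f.fromNormalization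
  haveI : ∀ (a b : Iᵒᵖ) (g : a ⟶ b), IsAffineHom (D.map g).left := fun a b g => by
    haveI := (hD a).1
    haveI := (hD b).1
    haveI : IsAffineHom ((D.map g).left ≫ (D.obj b).hom) := by
      rw [Over.w]
      infer_instance
    exact IsAffineHom.of_comp (D.map g).left (D.obj b).hom
  let j : X ⟶ c.pt.left := f.toNormalization ≫ e.inv.left
  haveI : IsOpenImmersion j := inferInstanceAs (IsOpenImmersion (f.toNormalization ≫ e.inv.left))
  have hj : j ≫ c.pt.hom = f := by
    show (f.toNormalization ≫ e.inv.left) ≫ c.pt.hom = f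
    rw [Category.assoc, Over.w e.inv]
    exact f.toNormalization_fromNormalization
  haveI : CompactSpace X := QuasiCompact.compactSpace_of_compactSpace f
  haveI : LocallyOfFiniteType (j ≫ c.pt.hom) := hj.symm ▸ inferInstance
  haveI : IsCofiltered Iᵒᵖ := inferInstance
  obtain ⟨i, hi⟩ := exists_immersion_stage D c hc j
  haveI := hi
  haveI := (hD i).1
  have hfac : (j ≫ (c.π.app i).left) ≫ (D.obj i).hom = f := by
    rw [Category.assoc, Over.w (c.π.app i)]
    exact hj
  haveI : QuasiCompact ((j ≫ (c.π.app i).left) ≫ (D.obj i).hom) := hfac.symm ▸ inferInstance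
  haveI : QuasiCompact (j ≫ (c.π.app i).left) := QuasiCompact.of_comp _ (D.obj i).hom
  obtain ⟨Z, g₁, g₂, h1, h2, h12⟩ := (IsImmersion.isImmersion_iff_exists_of_quasiCompact (f := j ≫ (c.π.app i).left)).mp hi
  exact ⟨Z, g₁, g₂ ≫ (D.obj i).hom, h1, inferInstance, by rw [← Category.assoc, h12, hfac]⟩

end Groth.Agent.LocImm77
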